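import Groth.Agent.ModFreeRes.SplitExt
import Groth.Agent.ModTensor.KFlat
import Groth.Agent.ModTensor.FreeOn
import Mathlib.Algebra.Homology.Embedding.CochainComplex

/-!
# Sums of the modules `j_{U!} O_U` and resolutions of the truncations
-/

set_option linter.style.haveILetI false

universe u

open CategoryTheory CategoryTheory.Limits ZeroObject Opposite
open Groth.Agent.ModTensor

namespace Groth.Agent.ModFreeRes

variable {C : Type u} [SmallCategory C] {J : GrothendieckTopology C} (O : Sheaf J CommRingCat.{u})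

/-- A sum over a disjoint union of index sets. -/
noncomputable def biprodSigmaIso {B : Type (u + 1)} [Category.{u} B] [Abelian B] [HasCoproducts.{u} B]
    {ι κ : Type u} (g : ι ⊕ κ → B) :
    (∐ fun i => g (Sum.inl i)) ⊞ (∐ fun i => g (Sum.inr i)) ≅ ∐ g where
  hom := biprod.desc (Sigma.desc fun i => Sigma.ι g (Sum.inl i))
    (Sigma.desc fun i => Sigma.ι g (Sum.inr i))
  inv := Sigma.desc fun j => match j with
    | Sum.inl i => Sigma.ι (fun i => g (Sum.inl i)) i ≫ biprod.inl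
    | Sum.inr i => Sigma.ι (fun i => g (Sum.inr i)) i ≫ biprod.inr
  hom_inv_id := by
    refine biprod.hom_ext' _ _ (Sigma.hom_ext _ _ fun i => ?_) (Sigma.hom_ext _ _ fun i => ?_) <;> simp
  inv_hom_id := by
    refine Sigma.hom_ext _ _ fun j => ?_
    rcases j with i | i <;> simp

/-- Being a sum of modules `j_{U!} O_U`. -/
def IsSumFree : ObjectProperty (ModSite.Mod O) := fun X =>
  ∃ (ι : Type u) (U : ι → C), Nonempty (X ≅ ∐ fun j => ModSite.freeOn O (U j))

theorem terms_isSumFree : Terms (IsSumFree O) where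
  of_iso X Y e := fun ⟨ι, U, ⟨e'⟩⟩ => ⟨ι, U, ⟨e.symm ≪≫ e'⟩⟩
  zero X hX := ⟨PEmpty, PEmpty.elim, ⟨hX.iso ((IsZero.iff_id_eq_zero _).2
    (Sigma.hom_ext _ _ fun j => j.elim))⟩⟩
  biprod X Y := fun ⟨ι, U, ⟨e⟩⟩ ⟨κ, V, ⟨e'⟩⟩ => ⟨ι ⊕ κ, Sum.elim U V, ⟨biprod.mapIso e e' ≪≫
    biprodSigmaIso (g := fun j => ModSite.freeOn O (Sum.elim U V j))⟩⟩

/-- The sections, as an index type. -/
abbrev SecIdx (M : ModSite.Mod O) : Type u := (U : C) × (secFunctor O U).obj M

/-- The modules indexed by the sections. -/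
noncomputable abbrev secFam (M : ModSite.Mod O) (p : SecIdx O M) : ModSite.Mod O :=
  ModSite.freeOn O p.1

/-- The summand of a section. -/
noncomputable def secι (M : ModSite.Mod O) (U : C) (t : (secFunctor O U).obj M) :
    ModSite.freeOn O U ⟶ ∐ secFam O M :=
  Sigma.ι (secFam O M) ⟨U, t⟩

@[reassoc]
lemma secι_desc {M N : ModSite.Mod O} (F : ∀ p : SecIdx O M, ModSite.freeOn O p.1 ⟶ N) (U : C)
    (t : (secFunctor O U).obj M) : secι O M U t ≫ Sigma.desc F = F ⟨U, t⟩ :=
  Sigma.ι_desc (f := secFam O M) F ⟨U, t⟩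

lemma secCover_hom_ext {M N : ModSite.Mod O} (a b : ∐ secFam O M ⟶ N)
    (h : ∀ U t, secι O M U t ≫ a = secι O M U t ≫ b) : a = b :=
  Sigma.hom_ext (f := secFam O M) a b fun p => h p.1 p.2

/-- The canonical cover by modules `j_{U!} O_U`, one for each section. -/
noncomputable def secCover : ModSite.Mod O ⥤ ModSite.Mod O where
  obj M := ∐ secFam O M
  map {M N} φ := Sigma.desc fun p => secι O N p.1 ((secFunctor O p.1).map φ p.2)
  map_id M := secCover_hom_ext O _ _ fun U t => by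
    rw [secι_desc, Category.comp_id]
    exact congrArg (secι O M U) (ConcreteCategory.congr_hom ((secFunctor O U).map_id M) t)
  map_comp {M N L} φ ψ := secCover_hom_ext O _ _ fun U t => by
    rw [secι_desc, secι_desc_assoc, secι_desc]
    exact congrArg (secι O L U) (ConcreteCategory.congr_hom ((secFunctor O U).map_comp φ ψ) t)

/-- The covering map. -/
noncomputable def secCoverπ : secCover O ⟶ 𝟭 (ModSite.Mod O) where
  app M := Sigma.desc fun p => (freeOnCorepr O p.1).homEquiv.symm p.2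
  naturality M N φ := secCover_hom_ext O _ _ fun U t => by
    dsimp only [secCover, Functor.id_map]
    rw [secι_desc_assoc]
    refine (secι_desc O _ _ _).trans ?_
    refine Eq.trans ?_ (secι_desc_assoc O _ U t φ).symm
    apply (freeOnCorepr O U).homEquiv.injective
    rw [(freeOnCorepr O U).homEquiv_comp, Equiv.apply_symm_apply, Equiv.apply_symm_apply]

theorem epi_secCoverπ (M : ModSite.Mod O) : Epi ((secCoverπ O).app M) where
  left_cancellation {N} g h e := by
    refine isSeparating_freeOn (O := O) (Set.univ : Set C)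
      (fun X => ⟨PUnit, fun _ => X, fun _ => 𝟙 X, J.superset_covering (fun Y f _ => ?_) (J.top_mem X),
        fun _ => Set.mem_univ _⟩) _ _ ?_
    · exact ⟨X, f, 𝟙 X, Presieve.ofArrows.mk PUnit.unit, by simp⟩
    rintro G ⟨x⟩ φ
    have e0 : secι O M x.1 ((freeOnCorepr O x.1).homEquiv φ) ≫ (secCoverπ O).app M = φ :=
      (secι_desc O _ _ _).trans ((freeOnCorepr O x.1).homEquiv.symm_apply_apply φ)
    rw [← e0]
    exact (Category.assoc _ _ _).trans
      ((congrArg (fun t => secι O M x.1 ((freeOnCorepr O x.1).homEquiv φ) ≫ t) e).trans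
        (Category.assoc _ _ _).symm)

/-- The cover, as a flat cover with no condition. -/
noncomputable def freeCover : KFlatLib.FlatCover (ModSite.Mod O) where
  Flat := fun _ => True
  G := secCover O
  π := secCoverπ O
  epi := epi_secCoverπ O
  flat _ := trivial
  of_iso _ _ _ _ := trivial
  biprod _ _ _ _ := trivial
  zero _ _ := trivial
  colim _ _ _ _ := trivial

theorem isSumFree_secCover (M : ModSite.Mod O) : IsSumFree O ((freeCover O).G.obj M) :=
  ⟨_, _, ⟨Iso.refl _⟩⟩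

variable (G : CochainComplex (ModSite.Mod O) ℤ)

/-- A resolution of `τ≤(n+1) G`. -/
structure Res (n : ℕ) where
  /-- The complex. -/
  Q : CochainComplex (ModSite.Mod O) ℤ
  /-- The map. -/
  π : Q ⟶ G.truncLE ((n : ℤ) + 1)
  qis : QuasiIso π
  epi : ∀ i, Epi (π.f i)
  bdd : ∃ b : ℤ, ∀ i, b < i → IsZero (Q.X i)
  term : ∀ i, IsSumFree O (Q.X i)

theorem exists_res_zero : Nonempty (Res O G 0) := by
  have hK : ∀ m, (1 : ℤ) < m → IsZero ((G.truncLE (((0 : ℕ) : ℤ) + 1)).X m) := fun m hm =>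
    CochainComplex.isZero_of_isStrictlyLE _ (((0 : ℕ) : ℤ) + 1) m (by push_cast; omega)
  obtain ⟨R, i, g, -, hg, he, hR, hi⟩ := exists_epi_qis_extension (terms_isSumFree O) (freeCover O)
    (isSumFree_secCover O) (0 : HomologicalComplex.zero ⟶ G.truncLE (((0 : ℕ) : ℤ) + 1)) 1
    (fun m _ => isZero_zero _) hK
  exact ⟨⟨R, g, hg, he, ⟨1 + 1, hR⟩, fun m => (hi m).term (terms_isSumFree O)
    ((terms_isSumFree O).zero _ (isZero_zero _))⟩⟩

theorem exists_res_succ (n : ℕ) (s : Res O G n) :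
    ∃ (t : Res O G (n + 1)) (i : s.Q ⟶ t.Q),
      i ≫ t.π ≫ G.ιTruncLE (((n + 1 : ℕ) : ℤ) + 1) = s.π ≫ G.ιTruncLE ((n : ℤ) + 1) ∧
      ∀ m, SplitP (IsSumFree O) (i.f m) := by
  obtain ⟨b, hb⟩ := s.bdd
  let T := G.truncLE ((n : ℤ) + 1)
  let N : ℤ := ((n + 1 : ℕ) : ℤ) + 1
  haveI : T.IsStrictlyLE N := by
    rw [CochainComplex.isStrictlyLE_iff]
    exact fun i hi => CochainComplex.isZero_of_isStrictlyLE _ ((n : ℤ) + 1) i (by omega)
  let j : T ⟶ G.truncLE N :=
    inv (T.ιTruncLE N) ≫ CochainComplex.truncLEMap (G.ιTruncLE ((n : ℤ) + 1)) N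
  have hj : j ≫ G.ιTruncLE N = G.ιTruncLE ((n : ℤ) + 1) := by simp [j, T]
  obtain ⟨R, i, g, hig, hg, he, hR, hi⟩ := exists_epi_qis_extension (terms_isSumFree O) (freeCover O)
    (isSumFree_secCover O) (s.π ≫ j) (max b N) (fun m hm => hb m (by omega))
    (fun m hm => CochainComplex.isZero_of_isStrictlyLE _ N m (by omega))
  refine ⟨⟨R, g, hg, he, ⟨max b N + 1, hR⟩, fun m => (hi m).term (terms_isSumFree O) (s.term m)⟩, i, ?_, hi⟩
  show i ≫ g ≫ G.ιTruncLE N = _
  rw [reassoc_of% hig, hj]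

/-- The system of resolutions of the truncations. -/
theorem exists_system :
    ∃ (R : ∀ n, Res O G n) (incl : ∀ n, (R n).Q ⟶ (R (n + 1)).Q),
      ∀ n, incl n ≫ (R (n + 1)).π ≫ G.ιTruncLE (((n + 1 : ℕ) : ℤ) + 1) =
          (R n).π ≫ G.ιTruncLE ((n : ℤ) + 1) ∧
        ∀ m, SplitP (IsSumFree O) ((incl n).f m) := by
  choose next incl h using exists_res_succ O G
  let R : ∀ n, Res O G n := fun n => Nat.rec (Classical.choice (exists_res_zero O G)) next n
  exact ⟨R, fun n => incl n (R n), fun n => h n (R n)⟩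

end Groth.Agent.ModFreeRes
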