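import Groth.Agent.KFlatLib.Bounded
import Groth.Agent.FlatCxLib.HomologyColim
import Mathlib.CategoryTheory.Limits.Constructions.EventuallyConstant

/-!
# Extending a map of bounded above complexes to a surjective quasi-isomorphism
-/

set_option linter.style.haveILetI false

universe v u

open CategoryTheory CategoryTheory.Limits ZeroObject CochainComplex CochainComplex.HomComplex
open Groth.Agent.KFlatLib

namespace Groth.Agent.ModFreeRes

variable {C : Type u} [Category.{v} C] [Abelian C]

/-- `f` is the inclusion of a direct summand with complement in `P`. -/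
def SplitP (P : ObjectProperty C) {X Y : C} (f : X ⟶ Y) : Prop :=
  ∃ (A : C) (e : Y ≅ A ⊞ X), P A ∧ f ≫ e.hom = biprod.inr

/-- Closure properties of the class of terms. -/
structure Terms (P : ObjectProperty C) : Prop where
  of_iso : ∀ ⦃X Y : C⦄, (X ≅ Y) → P X → P Y
  biprod : ∀ X Y, P X → P Y → P (X ⊞ Y)
  zero : ∀ X, IsZero X → P X

variable {P : ObjectProperty C} (hP : Terms P)

include hP in
lemma SplitP.comp {X Y Z : C} {f : X ⟶ Y} {g : Y ⟶ Z} (hf : SplitP P f) (hg : SplitP P g) :
    SplitP P (f ≫ g) := by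
  obtain ⟨A, e, hA, he⟩ := hf
  obtain ⟨B, e', hB, he'⟩ := hg
  refine ⟨B ⊞ A, e' ≪≫ biprod.mapIso (Iso.refl B) e ≪≫ (biprod.associator B A X).symm,
    hP.biprod _ _ hB hA, ?_⟩
  simp only [Iso.trans_hom, Category.assoc]
  rw [reassoc_of% he', biprod.mapIso_hom, biprod.inr_map_assoc, reassoc_of% he]
  ext <;> simp

include hP in
lemma splitP_of_isIso {X Y : C} (f : X ⟶ Y) [IsIso f] : SplitP P f := by
  refine ⟨0, ⟨inv f ≫ biprod.inr, biprod.snd ≫ f, by simp, ?_⟩, hP.zero _ (isZero_zero C), by simp⟩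
  apply biprod.hom_ext'
  · exact (isZero_zero C).eq_of_src _ _
  · simp

include hP in
lemma SplitP.term {X Y : C} {f : X ⟶ Y} (hf : SplitP P f) (hX : P X) : P Y := by
  obtain ⟨A, e, hA, -⟩ := hf
  exact hP.of_iso e.symm (hP.biprod _ _ hA hX)

/-- A split inclusion has a retraction and its cokernel lies in the class. -/
lemma SplitP.retraction {X Y : C} {f : X ⟶ Y} (hf : SplitP P f) :
    ∃ (A : C) (r : Y ⟶ X), P A ∧ f ≫ r = 𝟙 X ∧ Nonempty (cokernel f ≅ A) := by
  obtain ⟨A, e, hA, he⟩ := hf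
  refine ⟨A, e.hom ≫ biprod.snd, hA, by rw [reassoc_of% he, biprod.inr_snd], ⟨?_⟩⟩
  have hf' : biprod.inr ≫ e.inv = f := by rw [← he, Category.assoc, e.hom_inv_id, Category.comp_id]
  exact
    { hom := cokernel.desc f (e.hom ≫ biprod.fst) (by rw [reassoc_of% he, biprod.inr_fst])
      inv := biprod.inl ≫ e.inv ≫ cokernel.π f
      hom_inv_id := by
        rw [← cancel_epi (cokernel.π f), cokernel.π_desc_assoc, Category.comp_id, Category.assoc]
        have h0 : biprod.inr ≫ e.inv ≫ cokernel.π f = 0 := by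
          rw [reassoc_of% hf', cokernel.condition]
        have h1 : (biprod.fst ≫ biprod.inl + biprod.snd ≫ biprod.inr) ≫ e.inv ≫ cokernel.π f =
            e.inv ≫ cokernel.π f := by rw [biprod.total, Category.id_comp]
        rw [Preadditive.add_comp, Category.assoc, Category.assoc, h0, comp_zero, add_zero] at h1
        rw [h1, Iso.hom_inv_id_assoc]
      inv_hom_id := by simp }

variable (c : FlatCover C) (hG : ∀ X, P (c.G.obj X)) {Q K : CochainComplex C ℤ}

/-- The stages of the extension of a map. -/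
noncomputable def extStage (f : Q ⟶ K) (b : ℤ) : ℕ → Σ R : CochainComplex C ℤ, R ⟶ K
  | 0 => ⟨Q, f⟩
  | k + 1 => ⟨c.bQ (extStage f b k).2 (b + 1 - k), c.bF (extStage f b k).2 (b + 1 - k)⟩

include hP hG in
lemma splitP_bInl {R : CochainComplex C ℤ} (f : R ⟶ K) (n m : ℤ) :
    SplitP P ((mappingCone.inr (c.bMap f n)).f m) := by
  refine ⟨_, mappingConeXBiprod (c.bMap f n) m, ?_, by
    apply biprod.hom_ext <;> simp [mappingConeXBiprod]⟩
  by_cases h : m + 1 = n
  · rw [h]
    exact hP.of_iso (HomologicalComplex.singleObjXSelf (ComplexShape.up ℤ) n _).symm (hG _)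
  · exact hP.zero _ (HomologicalComplex.isZero_single_obj_X _ _ _ _ h)

lemma isZero_bQ {R : CochainComplex C ℤ} (f : R ⟶ K) (n m : ℤ) (hm : n ≤ m) (h : IsZero (R.X m)) :
    IsZero ((c.bQ f n).X m) :=
  IsZero.of_iso ((biprod_isZero_iff _ _).2
    ⟨HomologicalComplex.isZero_single_obj_X _ _ _ _ (by omega), h⟩)
    (mappingConeXBiprod (c.bMap f n) m)

lemma extStage_exact (f : Q ⟶ K) (b : ℤ) (hQ : ∀ m, b < m → IsZero (Q.X m))
    (hK : ∀ m, b < m → IsZero (K.X m)) (k : ℕ) :
    ∀ m, b + 1 - k ≤ m → IsZero ((mappingCone (extStage c f b k).2).homology m) := by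
  induction k with
  | zero =>
    intro m hm
    refine (HomologicalComplex.exactAt_iff_isZero_homology _ _).1 ?_
    exact ShortComplex.exact_of_isZero_X₂ _ (IsZero.of_iso
      ((biprod_isZero_iff _ _).2 ⟨hQ _ (by omega), hK _ (by omega)⟩) (mappingConeXBiprod f m))
  | succ k ih =>
    intro m hm
    rcases eq_or_lt_of_le (show b + 1 - k - 1 ≤ m by omega) with h | h
    · subst h
      exact c.isZero_homology_bCone _ _
    · exact c.isZero_homology_bCone_of_le _ _ m (by omega) (ih m (by omega))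

variable [HasColimitsOfShape ℕ C] [HasExactColimitsOfShape ℕ C]

include hP hG in
/-- A map of bounded above complexes extends, by termwise split inclusions, to a quasi-isomorphism. -/
theorem exists_qis_extension (f : Q ⟶ K) (b : ℤ) (hQ : ∀ m, b < m → IsZero (Q.X m))
    (hK : ∀ m, b < m → IsZero (K.X m)) :
    ∃ (R : CochainComplex C ℤ) (i : Q ⟶ R) (g : R ⟶ K), i ≫ g = f ∧ QuasiIso g ∧
      (∀ m, b < m → IsZero (R.X m)) ∧ ∀ m, SplitP P (i.f m) := by
  let X : ℕ ⥤ CochainComplex C ℤ := Functor.ofSequence (X := fun k => (extStage c f b k).1)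
    (fun k => mappingCone.inr (c.bMap (extStage c f b k).2 (b + 1 - k)))
  have hX : ∀ k, X.map (homOfLE (Nat.le_add_right k 1)) =
      mappingCone.inr (c.bMap (extStage c f b k).2 (b + 1 - k)) :=
    fun k => Functor.ofSequence_map_homOfLE_succ _ k
  let a : X ⟶ (Functor.const ℕ).obj K :=
    NatTrans.ofSequence (F := X) (fun k => (extStage c f b k).2) (fun k => by
      refine (congrArg (· ≫ _) (hX k)).trans ?_
      exact (c.inr_bF _ _).trans (Category.comp_id _).symm)
  let cc := colimit.cocone X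
  let g : cc.pt ⟶ K := colimit.desc X (Cocone.mk K a)
  -- the maps are eventually isomorphisms in each degree
  have hev : ∀ (m : ℤ) (k : ℕ), b + 1 - k ≤ m → IsIso ((cc.ι.app k).f m) := by
    intro m k hk
    have : (X ⋙ HomologicalComplex.eval C (ComplexShape.up ℤ) m).IsEventuallyConstantFrom k := by
      intro j φ
      obtain ⟨d, rfl⟩ := Nat.exists_eq_add_of_le (leOfHom φ)
      clear! cc
      induction d with
      | zero =>
        rw [Subsingleton.elim φ (𝟙 k), CategoryTheory.Functor.map_id]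
        infer_instance
      | succ d ih =>
        have := ih (homOfLE (Nat.le_add_right _ _))
        rw [Subsingleton.elim φ (homOfLE (Nat.le_add_right k d) ≫ homOfLE (Nat.le_add_right (k + d) 1)),
          Functor.map_comp]
        haveI : IsIso ((X ⋙ HomologicalComplex.eval C (ComplexShape.up ℤ) m).map
            (homOfLE (Nat.le_add_right (k + d) 1))) := by
          change IsIso ((X.map (homOfLE (Nat.le_add_right (k + d) 1))).f m)
          rw [hX]
          exact c.isIso_inr_f _ _ m (by omega)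
        infer_instance
    exact this.isIso_ι_of_isColimit (isColimitOfPreserves
      (HomologicalComplex.eval C (ComplexShape.up ℤ) m) (colimit.isColimit X))
  refine ⟨cc.pt, cc.ι.app 0, g, colimit.ι_desc _ 0, ?_, fun m hm => ?_, fun m => ?_⟩
  · refine quasiIso_of_acyclic_cone _ ?_
    rw [acyclic_iff_isZero]
    intro m
    refine isZero_homology_of_isColimit
      (isColimitConesCocone a (colimit.isColimit X) g (fun k => colimit.ι_desc _ k)) m (fun k => ?_)
    exact ⟨max k (b + 1 - m).toNat, le_max_left _ _,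
      (extStage_exact c f b hQ hK (max k (b + 1 - m).toNat) m (by omega)).eq_of_tgt _ _⟩
  · haveI := hev m 0 (by omega)
    exact (hQ m (by omega)).of_iso (asIso ((cc.ι.app 0).f m)).symm
  · obtain ⟨k, hk⟩ : ∃ k : ℕ, b + 1 - k ≤ m := ⟨(b + 1 - m).toNat, by omega⟩
    haveI := hev m k hk
    rw [← cc.w (homOfLE (Nat.zero_le k)), HomologicalComplex.comp_f]
    refine SplitP.comp hP ?_ (splitP_of_isIso hP _)
    clear hk
    clear this
    induction k with
    | zero =>
      rw [Subsingleton.elim (homOfLE (Nat.zero_le 0)) (𝟙 _), CategoryTheory.Functor.map_id,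
        HomologicalComplex.id_f]
      exact @splitP_of_isIso _ _ _ _ hP _ _ (𝟙 _) (IsIso.id _)
    | succ k ih =>
      rw [Subsingleton.elim (homOfLE (Nat.zero_le (k + 1))) (homOfLE (Nat.zero_le k) ≫
        homOfLE (Nat.le_add_right k 1)), Functor.map_comp, HomologicalComplex.comp_f]
      refine SplitP.comp hP ih ?_
      rw [hX]
      exact splitP_bInl hP c hG _ _ m

include hP hG in
/-- A map of bounded above complexes extends, by termwise split inclusions, to a termwise
surjective quasi-isomorphism. -/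
theorem exists_epi_qis_extension (f : Q ⟶ K) (b : ℤ) (hQ : ∀ m, b < m → IsZero (Q.X m))
    (hK : ∀ m, b < m → IsZero (K.X m)) :
    ∃ (R : CochainComplex C ℤ) (i : Q ⟶ R) (g : R ⟶ K), i ≫ g = f ∧ QuasiIso g ∧
      (∀ m, Epi (g.f m)) ∧ (∀ m, b + 1 < m → IsZero (R.X m)) ∧ ∀ m, SplitP P (i.f m) := by
  classical
  haveI := c.epi
  have hA : ∀ m : ℤ, ∃ (A : C) (p : A ⟶ K.X (m - 1)), P A ∧ Epi p ∧ (b + 1 < m → IsZero A) := by
    intro m
    by_cases h : b + 1 < m
    · exact ⟨0, 0, hP.zero _ (isZero_zero C),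
        ⟨fun _ _ _ => (hK _ (by omega)).eq_of_src _ _⟩, fun _ => isZero_zero C⟩
    · exact ⟨_, c.π.app _, hG _, c.epi _, fun h' => absurd h' h⟩
  choose A p hA hp hz using hA
  let φ : zeroCx A ⟶ K := zeroCxDesc (fun m => p m ≫ K.d (m - 1) m) (fun m => by simp)
  let γ : Cochain (zeroCx A) K (-1) :=
    Cochain.mk fun r q h => p r ≫ (K.XIsoOfEq (show r - 1 = q by omega)).hom
  have hγ : δ (-1) 0 γ = Cochain.ofHom (𝟙 _ ≫ φ) := by
    ext m
    rw [δ_v (-1) 0 rfl _ m m (add_zero m) (m - 1) (m + 1) (by omega) (by omega)]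
    simp [γ, φ, zeroCxDesc, zeroCx]
    erw [smul_zero, add_zero]
  let W := mappingCone (𝟙 (zeroCx A))
  let w : W ⟶ K := mappingCone.desc _ γ φ hγ
  have hw : ∀ m, Epi (w.f m) := by
    intro m
    have e : (mappingCone.inl (𝟙 (zeroCx A))).v (m + 1) m (by omega) ≫ w.f m =
        p (m + 1) ≫ (K.XIsoOfEq (show m + 1 - 1 = m by omega)).hom := by
      simp [w, γ]
      rfl
    refine @epi_of_epi _ _ _ _ _ ((mappingCone.inl (𝟙 (zeroCx A))).v (m + 1) m (by omega)) _ ?_
    rw [e]
    exact @epi_comp _ _ _ _ _ _ (hp _) (K.XIsoOfEq (show m + 1 - 1 = m by omega)).hom (by infer_instance)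
  -- add the contractible complex
  let e : ∀ m, (Q ⊞ W).X m ≅ W.X m ⊞ Q.X m := fun m =>
    { hom := biprod.lift ((biprod.snd : Q ⊞ W ⟶ W).f m) ((biprod.fst : Q ⊞ W ⟶ Q).f m)
      inv := biprod.desc ((biprod.inr : W ⟶ Q ⊞ W).f m) ((biprod.inl : Q ⟶ Q ⊞ W).f m)
      hom_inv_id := by
        rw [biprod.lift_desc, ← HomologicalComplex.comp_f, ← HomologicalComplex.comp_f,
          ← HomologicalComplex.add_f_apply, add_comm, biprod.total]
        rfl
      inv_hom_id := by
        ext <;> simp [← HomologicalComplex.comp_f] }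
  have hW : ∀ m, b + 1 < m → IsZero (W.X m) := fun m hm =>
    IsZero.of_iso ((biprod_isZero_iff _ _).2 ⟨hz _ (by omega), hz _ hm⟩) (mappingConeXBiprod _ m)
  obtain ⟨R, i, g, hig, hg, hR, hi⟩ := exists_qis_extension hP c hG (biprod.desc f w) (b + 1)
    (fun m hm => IsZero.of_iso ((biprod_isZero_iff _ _).2 ⟨hW m hm, hQ m (by omega)⟩) (e m))
    (fun m hm => hK m (by omega))
  refine ⟨R, biprod.inl ≫ i, g, by rw [Category.assoc, hig, biprod.inl_desc], hg, fun m => ?_,
    fun m hm => hR m (by omega), fun m => ?_⟩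
  · haveI := hw m
    refine epi_of_epi_fac (show (biprod.inr ≫ i).f m ≫ g.f m = w.f m from ?_)
    rw [← HomologicalComplex.comp_f, Category.assoc, hig, biprod.inr_desc]
  · rw [HomologicalComplex.comp_f]
    refine SplitP.comp hP ⟨W.X m, e m, ?_, ?_⟩ (hi m)
    · exact hP.of_iso (mappingConeXBiprod _ m).symm (hP.biprod _ _ (hA _) (hA _))
    · apply biprod.hom_ext <;> simp [e, ← HomologicalComplex.comp_f]

/-- A cocone map which is eventually a quasi-isomorphism in each degree gives one out of the colimit. -/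
theorem quasiIso_desc_of_eventually {X : ℕ ⥤ CochainComplex C ℤ} (s : Cocone X)
    (h : ∀ m : ℤ, ∃ k₀ : ℕ, ∀ k, k₀ ≤ k → QuasiIsoAt (s.ι.app k) m) :
    QuasiIso (colimit.desc X s) where
  quasiIsoAt m := by
    obtain ⟨k₀, hk₀⟩ := h m
    rw [quasiIsoAt_iff_isIso_homologyMap]
    let H := HomologicalComplex.homologyFunctor C (ComplexShape.up ℤ) m
    haveI : PreservesColimitsOfShape ℕ H :=
      FlatCxLib.preservesColimitsOfShape_complexHomology _ m
    have hs : ∀ k, k₀ ≤ k → IsIso (H.map (s.ι.app k)) := fun k hk =>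
      (quasiIsoAt_iff_isIso_homologyMap _ _).1 (hk₀ k hk)
    have hev : (X ⋙ H).IsEventuallyConstantFrom k₀ := by
      intro j φ
      haveI := hs j (leOfHom φ)
      haveI := hs k₀ le_rfl
      refine IsIso.of_isIso_fac_right (show (X ⋙ H).map φ ≫ H.map (s.ι.app j) = H.map (s.ι.app k₀) from ?_)
      rw [Functor.comp_map, ← H.map_comp, s.w]
    exact @IsIso.of_isIso_fac_left _ _ _ _ _ (H.map (colimit.ι X k₀)) _ (H.map (s.ι.app k₀))
      (hev.isIso_ι_of_isColimit (isColimitOfPreserves H (colimit.isColimit X))) (hs k₀ le_rfl)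
      (show H.map (colimit.ι X k₀) ≫ H.map (colimit.desc X s) =
        H.map (s.ι.app k₀) by rw [← H.map_comp, colimit.ι_desc])

end Groth.Agent.ModFreeRes
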